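import Groth.Agent.S7194
import Groth.Agent.S2810
import Mathlib

/-!
# The scheme of clopen subsets of a finite locally free scheme
-/

universe u

open CategoryTheory CategoryTheory.Limits AlgebraicGeometry TopologicalSpace Opposite
open scoped TensorProduct

set_option linter.style.haveILetI false
set_option backward.isDefEq.respectTransparency false
set_option backward.isDefEq.respectTransparency.types false

noncomputable section

namespace Groth.Agent.H4NS.ClopenRep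

variable {S Z : Scheme.{u}} (g : Z ⟶ S)

/-- The map on base changes. -/
def pm {T T' : Scheme.{u}} {h : T ⟶ S} {h' : T' ⟶ S} (v : T' ⟶ T) (hv : v ≫ h = h') :
    pullback h' g ⟶ pullback h g :=
  pullback.map h' g h g v (𝟙 Z) (𝟙 S) (by rw [Category.comp_id, hv]) (by simp)

theorem pm_fst {T T' : Scheme.{u}} {h : T ⟶ S} {h' : T' ⟶ S} (v : T' ⟶ T) (hv : v ≫ h = h') :
    pm g v hv ≫ pullback.fst h g = pullback.fst h' g ≫ v := pullback.lift_fst _ _ _

theorem pm_snd {T T' : Scheme.{u}} {h : T ⟶ S} {h' : T' ⟶ S} (v : T' ⟶ T) (hv : v ≫ h = h') :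
    pm g v hv ≫ pullback.snd h g = pullback.snd h' g :=
  (pullback.lift_snd _ _ _).trans (Category.comp_id _)

theorem pm_comp {T T' T'' : Scheme.{u}} {h : T ⟶ S} {h' : T' ⟶ S} {h'' : T'' ⟶ S} (v : T' ⟶ T) (hv : v ≫ h = h')
    (v' : T'' ⟶ T') (hv' : v' ≫ h' = h'') :
    pm g v' hv' ≫ pm g v hv = pm g (v' ≫ v) (by rw [Category.assoc, hv, hv']) := by
  apply pullback.hom_ext
  · rw [Category.assoc, pm_fst, pm_fst, ← Category.assoc, pm_fst, Category.assoc]
  · rw [Category.assoc, pm_snd, pm_snd, pm_snd]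

variable {g}

theorem hom_unique {P : Scheme.{u}} (q : P ⟶ S) (b : P ⟶ S ⨿ S) (hb : b ≫ coprod.desc (𝟙 S) (𝟙 S) = q) (O : P.Opens)
    {e : S ⟶ S ⨿ S} [IsOpenImmersion e] (he : e ≫ coprod.desc (𝟙 S) (𝟙 S) = 𝟙 S)
    (hO : ∀ x ∈ O, b x ∈ Set.range e) : O.ι ≫ b = O.ι ≫ q ≫ e := by
  have hr : Set.range (O.ι ≫ b) ⊆ Set.range e := by
    rintro _ ⟨x, rfl⟩
    exact hO (O.ι x) x.2
  have hl := IsOpenImmersion.lift_fac e (O.ι ≫ b) hr
  have h2 := congrArg (· ≫ coprod.desc (𝟙 S) (𝟙 S)) hl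
  simp only [Category.assoc, he, hb, Category.comp_id] at h2
  rw [← Category.assoc, ← h2, hl]

/-- Morphisms to `S ⨿ S` over `S` are clopen subsets. -/
theorem existsUnique_hom {P : Scheme.{u}} (q : P ⟶ S) {V : Set P} (hV : IsClopen V) :
    ∃! b : P ⟶ S ⨿ S, b ≫ coprod.desc (𝟙 S) (𝟙 S) = q ∧ b ⁻¹' Set.range (coprod.inl : S ⟶ S ⨿ S) = V := by
  let O₁ : P.Opens := ⟨V, hV.2⟩
  let O₂ : P.Opens := ⟨Vᶜ, hV.1.isOpen_compl⟩
  have hc : IsCompl O₁.ι.opensRange O₂.ι.opensRange := by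
    rw [Scheme.Opens.opensRange_ι, Scheme.Opens.opensRange_ι]
    refine ⟨disjoint_iff.2 (Opens.ext ?_), codisjoint_iff.2 (Opens.ext ?_)⟩
    · simp [O₁, O₂]
    · simp [O₁, O₂]
  obtain ⟨hcol⟩ := nonempty_isColimit_binaryCofanMk_of_isCompl O₁.ι O₂.ι hc
  obtain ⟨b, hb₁, hb₂⟩ := BinaryCofan.IsColimit.desc' hcol (O₁.ι ≫ q ≫ coprod.inl) (O₂.ι ≫ q ≫ coprod.inr)
  change O₁.ι ≫ b = _ at hb₁
  change O₂.ι ≫ b = _ at hb₂
  refine ⟨b, ⟨BinaryCofan.IsColimit.hom_ext hcol ?_ ?_, Set.ext fun x => ?_⟩, fun b' hb' => ?_⟩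
  · show O₁.ι ≫ b ≫ _ = O₁.ι ≫ q
    rw [reassoc_of% hb₁, coprod.inl_desc, Category.comp_id]
  · show O₂.ι ≫ b ≫ _ = O₂.ι ≫ q
    rw [reassoc_of% hb₂, coprod.inr_desc, Category.comp_id]
  · constructor
    · intro hx
      by_contra hn
      have h : b x = (coprod.inr : S ⟶ S ⨿ S) (q x) := congr($hb₂ ⟨x, hn⟩)
      obtain ⟨s, hs⟩ := hx
      exact inl_ne_inr S S s (q x) (hs.trans h)
    · intro hx
      exact ⟨q x, (congr($hb₁ ⟨x, hx⟩)).symm⟩
  · refine BinaryCofan.IsColimit.hom_ext hcol ?_ ?_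
    · show O₁.ι ≫ b' = O₁.ι ≫ b
      rw [hb₁]
      exact hom_unique q b' hb'.1 O₁ (coprod.inl_desc _ _) fun x hx => hb'.2.ge hx
    · show O₂.ι ≫ b' = O₂.ι ≫ b
      rw [hb₂]
      refine hom_unique q b' hb'.1 O₂ (coprod.inr_desc _ _) fun x hx => ?_
      have hu := (isCompl_range_inl_inr S S).sup_eq_top.ge (show b' x ∈ (⊤ : Set _) from trivial)
      exact hu.resolve_left fun h => hx (hb'.2.le h)

variable (g)

/-- A scheme with a universal clopen subset. -/
def IsUniversal {W : Scheme.{u}} (w : W ⟶ S) (η : Set ↥(pullback w g)) : Prop :=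
  ∀ (T : Scheme.{u}) (h : T ⟶ S) (V : Set ↥(pullback h g)), IsClopen V →
    ∃! a : T ⟶ W, ∃ ha : a ≫ w = h, pm g a ha ⁻¹' η = V

theorem exists_universal (hg : Mor2.IsFinLocFree g) :
    ∃ (W : Scheme.{u}) (w : W ⟶ S) (η : Set ↥(pullback w g)), IsAffineHom w ∧ IsClopen η ∧ IsUniversal g w η := by
  let f : S ⨿ S ⟶ S := coprod.desc (𝟙 S) (𝟙 S)
  obtain ⟨W, hW, ⟨R⟩⟩ := Groth.Agent.S7194.result g f hg
  let b₀ : pullback W.hom g ⟶ S ⨿ S :=
    (show (Over.map g).obj ((Over.pullback g).obj W) ⟶ Over.mk f from R.homEquiv (𝟙 W)).left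
  have hleft : ∀ {T : Over S} (φ : T ⟶ W),
      (show (Over.map g).obj ((Over.pullback g).obj T) ⟶ Over.mk f from R.homEquiv φ).left =
        pm g φ.left (Over.w φ) ≫ b₀ := by
    intro T φ
    have h := R.homEquiv_comp φ (𝟙 W)
    rw [Category.comp_id] at h
    rw [h]
    have e : ((Over.pullback g).map φ).left = pm g φ.left (Over.w φ) := by
      apply pullback.hom_ext <;> simp [pm]
    rw [← e]
    rfl
  have hcl : IsClopen (Set.range (coprod.inl : S ⟶ S ⨿ S)) := by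
    refine ⟨?_, (coprod.inl : S ⟶ S ⨿ S).isOpenEmbedding.isOpen_range⟩
    rw [← isOpen_compl_iff, (isCompl_range_inl_inr S S).compl_eq]
    exact (coprod.inr : S ⟶ S ⨿ S).isOpenEmbedding.isOpen_range
  refine ⟨W.left, W.hom, b₀ ⁻¹' Set.range (coprod.inl : S ⟶ S ⨿ S), hW, hcl.preimage b₀.continuous,
    fun T h V hV => ?_⟩
  obtain ⟨b, ⟨hb, hbV⟩, hbu⟩ := existsUnique_hom (pullback.snd h g ≫ g) hV
  let β : (Over.map g).obj ((Over.pullback g).obj (Over.mk h)) ⟶ Over.mk f := Over.homMk b hb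
  let φ : Over.mk h ⟶ W := R.homEquiv.symm β
  have hφ : pm g φ.left (Over.w φ) ≫ b₀ = b := by
    rw [← hleft φ, show R.homEquiv φ = β from R.homEquiv.apply_symm_apply β]
    rfl
  refine ⟨φ.left, ⟨Over.w φ, by rw [← hbV, ← hφ]; rfl⟩, fun a ⟨ha, haV⟩ => ?_⟩
  let φ' : Over.mk h ⟶ W := Over.homMk a ha
  suffices φ' = φ from congrArg CommaMorphism.left this
  refine R.homEquiv.eq_symm_apply.2 (Over.OverMorphism.ext ?_)
  refine Eq.trans (hleft φ') (hbu _ ⟨?_, haV⟩)
  rw [← hleft φ']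
  exact Over.w (show (Over.map g).obj ((Over.pullback g).obj (Over.mk h)) ⟶ Over.mk f from R.homEquiv φ')

variable {g}

theorem eq_of_isUniversal {W : Scheme.{u}} {w : W ⟶ S} {η : Set ↥(pullback w g)} (hη : IsClopen η)
    (hu : IsUniversal g w η) {T : Scheme.{u}} {h : T ⟶ S} (a a' : T ⟶ W) (ha : a ≫ w = h) (ha' : a' ≫ w = h)
    (he : pm g a ha ⁻¹' η = pm g a' ha' ⁻¹' η) : a = a' :=
  (hu T h _ (hη.preimage (pm g a ha).continuous)).unique ⟨ha, rfl⟩ ⟨ha', he.symm⟩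

/-- The scheme of clopen subsets is étale. -/
theorem etale_of_isUniversal (hg : Mor2.IsFinLocFree g) {W : Scheme.{u}} (w : W ⟶ S) [IsAffineHom w]
    {η : Set ↥(pullback w g)} (hη : IsClopen η) (hu : IsUniversal g w η) : Etale w := by
  classical
  obtain ⟨hfin, hflat, hfp⟩ := hg
  rw [HasRingHomProperty.iff_exists_appLE (P := @Etale)
    (RingHom.Etale.stableUnderComposition.stableUnderCompositionWithLocalizationAway
      (RingHom.Etale.propertyIsLocal.HoldsForLocalizationAway RingHom.Etale.containsIdentities)).left]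
  intro x
  obtain ⟨V, hV, hxV, -⟩ := exists_isAffineOpen_mem_and_subset (x := w x) (U := (⊤ : S.Opens)) trivial
  have hWV : IsAffineOpen (w ⁻¹ᵁ V) := hV.preimage w
  have hV' : IsAffineOpen (g ⁻¹ᵁ V) := hV.preimage g
  refine ⟨⟨V, hV⟩, ⟨w ⁻¹ᵁ V, hWV⟩, hxV, le_rfl, ?_⟩
  let A := Γ(S, V)
  let B := Γ(Z, g ⁻¹ᵁ V)
  let R := Γ(W, w ⁻¹ᵁ V)
  letI algB : Algebra A B := (g.appLE V (g ⁻¹ᵁ V) le_rfl).hom.toAlgebra
  letI algR : Algebra A R := (w.appLE V (w ⁻¹ᵁ V) le_rfl).hom.toAlgebra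
  haveI : Module.Finite A B := by
    have h := IsFinite.finite_app g V hV
    rw [Scheme.Hom.app_eq_appLE] at h
    exact h
  haveI : Module.Flat A B := g.flat_appLE hV hV' le_rfl
  haveI : Algebra.FinitePresentation A B := g.finitePresentation_appLE hV hV' le_rfl
  haveI : Module.FinitePresentation A B := Module.FinitePresentation.of_finite_of_finitePresentation A B
  haveI : Module.Projective A B := Module.Flat.projective_of_finitePresentation
  suffices Algebra.Etale A R from RingHom.etale_algebraMap.2 this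
  obtain ⟨E, _, _, e₀, hE, he₀, huE⟩ := Groth.Agent.S2810.result A B
  -- the points over `V`
  let t : ∀ (C : Type u) [CommRing C] [Algebra A C], Spec (CommRingCat.of C) ⟶ S := fun C _ _ =>
    Spec.map (CommRingCat.ofHom (algebraMap A C)) ≫ hV.fromSpec
  have hsq0 : IsPullback (Spec.map (CommRingCat.ofHom (algebraMap A B))) hV'.fromSpec hV.fromSpec g := by
    refine (isPullback_morphismRestrict g V).of_iso hV'.isoSpec hV.isoSpec (Iso.refl _) (Iso.refl _) ?_ ?_ ?_ ?_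
    · rw [← cancel_mono hV.fromSpec, Category.assoc, Category.assoc]
      show (g ∣_ V) ≫ hV.isoSpec.hom ≫ hV.fromSpec = hV'.isoSpec.hom ≫ Spec.map (g.appLE V (g ⁻¹ᵁ V) le_rfl) ≫ hV.fromSpec
      rw [IsAffineOpen.SpecMap_appLE_fromSpec g hV hV' le_rfl, ← hV.isoSpec_inv_ι, ← hV'.isoSpec_inv_ι,
        Iso.hom_inv_id_assoc, morphismRestrict_ι, Category.assoc, Iso.hom_inv_id_assoc]
    · rw [← hV'.isoSpec_inv_ι, Iso.hom_inv_id_assoc, Iso.refl_hom, Category.comp_id]
    · rw [← hV.isoSpec_inv_ι, Iso.hom_inv_id_assoc, Iso.refl_hom, Category.comp_id]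
    · simp
  have hsq : ∀ (C : Type u) [CommRing C] [Algebra A C],
      IsPullback (Spec.map (CommRingCat.ofHom (Algebra.TensorProduct.includeLeftRingHom (R := A) (A := C) (B := B))))
        (Spec.map (CommRingCat.ofHom (Algebra.TensorProduct.includeRight.toRingHom : B →+* C ⊗[A] B)) ≫ hV'.fromSpec)
        (t C) g := fun C _ _ =>
    (isPullback_SpecMap_of_isPushout _ _ _ _ (CommRingCat.isPushout_tensorProduct A C B)).paste_vert hsq0
  let Q : ∀ (C : Type u) [CommRing C] [Algebra A C], Spec (CommRingCat.of (C ⊗[A] B)) ≅ pullback (t C) g :=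
    fun C _ _ => (hsq C).isoPullback
  have htnat : ∀ {C C' : Type u} [CommRing C] [Algebra A C] [CommRing C'] [Algebra A C'] (φ : C →ₐ[A] C'),
      Spec.map (CommRingCat.ofHom φ.toRingHom) ≫ t C = t C' := fun {C C'} _ _ _ _ φ => by
    rw [← Category.assoc, ← Spec.map_comp, ← CommRingCat.ofHom_comp, AlgHom.toRingHom_eq_coe, φ.comp_algebraMap]
  -- pulling back idempotents
  have hnat : ∀ {C C' : Type u} [CommRing C] [Algebra A C] [CommRing C'] [Algebra A C'] (φ : C →ₐ[A] C'),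
      Spec.map (CommRingCat.ofHom (Algebra.TensorProduct.map φ (AlgHom.id A B)).toRingHom) ≫ (Q C).hom =
        (Q C').hom ≫ pm g (Spec.map (CommRingCat.ofHom φ.toRingHom)) (htnat φ) := fun {C C'} _ _ _ _ φ => by
    apply pullback.hom_ext
    · rw [Category.assoc, Category.assoc, pm_fst, IsPullback.isoPullback_hom_fst, IsPullback.isoPullback_hom_fst_assoc,
        ← Spec.map_comp, ← Spec.map_comp, ← CommRingCat.ofHom_comp, ← CommRingCat.ofHom_comp]
      congr 2
    · rw [Category.assoc, Category.assoc, pm_snd, IsPullback.isoPullback_hom_snd, IsPullback.isoPullback_hom_snd,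
        ← Category.assoc, ← Spec.map_comp, ← CommRingCat.ofHom_comp]
      congr 3
      ext c
      simp
  -- the universal idempotent over the part over `V`
  let a₀ : Spec (CommRingCat.of R) ⟶ W := hWV.fromSpec
  have ha₀ : a₀ ≫ w = t R := (IsAffineOpen.SpecMap_appLE_fromSpec w hV hWV le_rfl).symm
  let V₀ : Clopens (PrimeSpectrum (R ⊗[A] B)) :=
    ⟨((Q R).hom ≫ pm g a₀ ha₀) ⁻¹' η, hη.preimage ((Q R).hom ≫ pm g a₀ ha₀).continuous⟩
  let r₀ := (PrimeSpectrum.isIdempotentElemEquivClopens (R := R ⊗[A] B)).symm V₀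
  have hr₀ : (PrimeSpectrum.basicOpen r₀.1 : Set (PrimeSpectrum (R ⊗[A] B))) = ((Q R).hom ≫ pm g a₀ ha₀) ⁻¹' η :=
    congrArg (fun o : Opens (PrimeSpectrum (R ⊗[A] B)) => (o : Set (PrimeSpectrum (R ⊗[A] B))))
      (PrimeSpectrum.basicOpen_isIdempotentElemEquivClopens_symm V₀)
  -- the idempotent attached to a point
  have hpt : ∀ (C : Type u) [CommRing C] [Algebra A C] (φ : R →ₐ[A] C) (ha : (Spec.map (CommRingCat.ofHom φ.toRingHom) ≫ a₀) ≫ w = t C),
      (PrimeSpectrum.basicOpen (Algebra.TensorProduct.map φ (AlgHom.id A B) r₀.1) : Set (PrimeSpectrum (C ⊗[A] B))) =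
        ((Q C).hom ≫ pm g _ ha) ⁻¹' η := by
    intro C _ _ φ ha
    rw [← pm_comp g a₀ ha₀ _ (htnat φ), ← Category.assoc, ← hnat φ, Category.assoc]
    show _ = Spec.map (CommRingCat.ofHom (Algebra.TensorProduct.map φ (AlgHom.id A B)).toRingHom) ⁻¹'
      (((Q R).hom ≫ pm g a₀ ha₀) ⁻¹' η)
    rw [← hr₀]
    rfl
  have huR : ∀ (C : Type u) [CommRing C] [Algebra A C] (e : C ⊗[A] B), IsIdempotentElem e →
      ∃! φ : R →ₐ[A] C, Algebra.TensorProduct.map φ (AlgHom.id A B) r₀.1 = e := by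
    intro C _ _ e he
    have hD : IsClopen (PrimeSpectrum.basicOpen e : Set (PrimeSpectrum (C ⊗[A] B))) :=
      PrimeSpectrum.isClopen_basicOpen_of_mul_add e (1 - e) (by rw [mul_sub, mul_one, he.eq, sub_self])
        (add_sub_cancel _ _)
    let D : Set (Spec (CommRingCat.of (C ⊗[A] B))) := (PrimeSpectrum.basicOpen e : Set (PrimeSpectrum (C ⊗[A] B)))
    obtain ⟨a, ⟨ha, haD⟩, -⟩ := hu _ (t C) ((Q C).inv ⁻¹' D) (hD.preimage (Q C).inv.continuous)
    have har : Set.range a ⊆ Set.range a₀ := by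
      rintro _ ⟨p, rfl⟩
      show a p ∈ Set.range hWV.fromSpec
      rw [IsAffineOpen.range_fromSpec]
      show w (a p) ∈ V
      rw [show w (a p) = t C p from congr($ha p), show t C p = hV.fromSpec _ from rfl]
      exact hV.range_fromSpec.le ⟨_, rfl⟩
    obtain ⟨l, hl⟩ : ∃ l, l ≫ a₀ = a := ⟨_, IsOpenImmersion.lift_fac a₀ a har⟩
    obtain ⟨ψ, rfl⟩ : ∃ ψ : CommRingCat.of R ⟶ CommRingCat.of C, Spec.map ψ = l := ⟨Spec.preimage l, Spec.map_preimage l⟩
    have hψ : CommRingCat.ofHom (algebraMap A R) ≫ ψ = CommRingCat.ofHom (algebraMap A C) := by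
      apply Spec.map_injective
      rw [Spec.map_comp, ← cancel_mono hV.fromSpec, Category.assoc]
      show Spec.map ψ ≫ t R = t C
      rw [← ha₀, reassoc_of% hl, ha]
    let φ : R →ₐ[A] C := { ψ.hom with commutes' := fun r => congr($(hψ) r) }
    have hφa : Spec.map (CommRingCat.ofHom φ.toRingHom) ≫ a₀ = a := hl
    refine ⟨φ, ?_, fun φ' hφ' => ?_⟩
    · refine PrimeSpectrum.basicOpen_injOn_isIdempotentElem (r₀.2.map _) he (SetLike.coe_injective ?_)
      rw [hpt C φ (by rw [hφa, ha])]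
      show (Q C).hom ⁻¹' (pm g _ _ ⁻¹' η) = D
      have : pm g (Spec.map (CommRingCat.ofHom φ.toRingHom) ≫ a₀) (by rw [hφa, ha]) ⁻¹' η = (Q C).inv ⁻¹' D := by
        simp only [hφa]; exact haD
      rw [this, ← Set.preimage_comp]
      refine Set.ext fun p => ?_
      show (Q C).inv ((Q C).hom p) ∈ D ↔ p ∈ D
      rw [show (Q C).inv ((Q C).hom p) = p from congr($((Q C).hom_inv_id) p)]
    · have hb : ∀ χ : R →ₐ[A] C, (Spec.map (CommRingCat.ofHom χ.toRingHom) ≫ a₀) ≫ w = t C := fun χ => by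
        rw [Category.assoc, ha₀, htnat χ]
      have h1 : Spec.map (CommRingCat.ofHom φ'.toRingHom) ≫ a₀ = a := by
        refine eq_of_isUniversal hη hu _ _ (hb φ') ha ?_
        rw [haD]
        have h2 := hpt C φ' (hb φ')
        rw [hφ'] at h2
        show _ = (Q C).inv ⁻¹' (PrimeSpectrum.basicOpen e : Set (PrimeSpectrum (C ⊗[A] B)))
        rw [h2]
        refine Set.ext fun p => ?_
        show _ ↔ pm g _ _ ((Q C).hom ((Q C).inv p)) ∈ η
        rw [show (Q C).hom ((Q C).inv p) = p from congr($((Q C).inv_hom_id) p)]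
        rfl
      have h3 := Spec.map_injective ((cancel_mono a₀).1 (h1.trans hφa.symm))
      exact AlgHom.ext fun r => congr($(h3) r)
  -- comparison
  obtain ⟨p, hp, -⟩ := huE R r₀.1 r₀.2
  obtain ⟨q, hq, -⟩ := huR E e₀ he₀
  have hmc : ∀ {X Y Y' : Type u} [CommRing X] [Algebra A X] [CommRing Y] [Algebra A Y] [CommRing Y'] [Algebra A Y']
      (φ : X →ₐ[A] Y) (ψ : Y →ₐ[A] Y') (z : X ⊗[A] B),
      Algebra.TensorProduct.map (ψ.comp φ) (AlgHom.id A B) z =
        Algebra.TensorProduct.map ψ (AlgHom.id A B) (Algebra.TensorProduct.map φ (AlgHom.id A B) z) := by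
    intro X Y Y' _ _ _ _ _ _ φ ψ z
    induction z using TensorProduct.induction_on with
    | zero => simp
    | tmul a b => simp
    | add a b ha hb => simp only [map_add, ha, hb]
  have hmid : ∀ {X : Type u} [CommRing X] [Algebra A X] (z : X ⊗[A] B),
      Algebra.TensorProduct.map (AlgHom.id A X) (AlgHom.id A B) z = z := fun z => by
    rw [Algebra.TensorProduct.map_id]; rfl
  have hqp : q.comp p = AlgHom.id A E := (huE E e₀ he₀).unique (by rw [hmc, hp, hq]) (hmid e₀)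
  have hpq : p.comp q = AlgHom.id A R := (huR R r₀.1 r₀.2).unique (by rw [hmc, hq, hp]) (hmid r₀.1)
  haveI := hE
  exact Algebra.Etale.of_equiv (AlgEquiv.ofAlgHom p q hpq hqp)

end Groth.Agent.H4NS.ClopenRep
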