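import Groth.Prelude
import Groth.Agent.QCoh.Extension
import Groth.Agent.QCoh.LocFree
import Mathlib

/-! Kernels of epimorphisms between finite locally free modules. -/

set_option autoImplicit false
set_option backward.isDefEq.respectTransparency false
set_option backward.isDefEq.respectTransparency.types false
set_option linter.style.haveILetI false

universe u

open CategoryTheory CategoryTheory.Limits AlgebraicGeometry TopologicalSpace Opposite

namespace Groth.Agent.H4NS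

variable {X : Scheme.{u}} {S : ShortComplex X.Modules}

/-- A map of modules on sections over an open, as a linear map. -/
noncomputable def appLin {M N : X.Modules} (φ : M ⟶ N) (V : X.Opens) :
    Γ(M, V) →ₗ[Γ(X, V)] Γ(N, V) where
  toFun := φ.app V
  map_add' := map_add (φ.app V).hom
  map_smul' := fun r s => Scheme.Modules.Hom.app_smul φ r s

theorem split_sections (hS : S.ShortExact) (h₁ : Coh.IsQCoh S.X₁) {V : X.Opens}
    (hV : IsAffineOpen V) [Module.Projective Γ(X, V) Γ(S.X₃, V)] :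
    Nonempty (Γ(S.X₂, V) ≃ₗ[Γ(X, V)] Γ(S.X₁, V) × Γ(S.X₃, V)) := by
  have hsurj : Function.Surjective (appLin S.g V) :=
    fun y => QCoh.app_surjective_of_shortExact hS h₁ hV y
  have hinj : Function.Injective (appLin S.f V) := QCoh.app_f_injective hS V
  have hex : Function.Exact (appLin S.f V) (appLin S.g V) := fun y =>
    ⟨fun hy => (QCoh.exists_app_f_eq hS V y hy), by rintro ⟨a, rfl⟩; exact QCoh.app_g_f V a⟩
  obtain ⟨s, hs⟩ := Module.projective_lifting_property (appLin S.g V) LinearMap.id hsurj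
  exact ⟨((hex.splitSurjectiveEquiv hinj) ⟨s, hs⟩).1⟩

theorem exists_affine_free_pair (h₂ : FlatMod.IsFinLocFree S.X₂) (h₃ : FlatMod.IsFinLocFree S.X₃) (x : X) :
    ∃ V : X.Opens, IsAffineOpen V ∧ x ∈ V ∧
      (∃ n, Nonempty (Γ(S.X₂, V) ≃ₗ[Γ(X, V)] (ULift.{u} (Fin n) →₀ Γ(X, V)))) ∧
      ∃ m, Nonempty (Γ(S.X₃, V) ≃ₗ[Γ(X, V)] (ULift.{u} (Fin m) →₀ Γ(X, V))) := by
  obtain ⟨U₂, n, hx₂, ⟨e₂⟩⟩ := h₂ x
  obtain ⟨U₃, m, hx₃, ⟨e₃⟩⟩ := h₃ x
  obtain ⟨_, ⟨V, hV, rfl⟩, hxV, hle⟩ :=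
    X.isBasis_affineOpens.exists_subset_of_mem_open (show x ∈ U₂ ⊓ U₃ from ⟨hx₂, hx₃⟩) (U₂ ⊓ U₃).2
  exact ⟨V, hV, hxV, ⟨n, QCoh.free_sections hV (le_trans hle inf_le_left) e₂⟩,
    m, QCoh.free_sections hV (le_trans hle inf_le_right) e₃⟩

theorem isFinLocFree_X₁ (hS : S.ShortExact) (h₁ : Coh.IsQCoh S.X₁) (h₂ : FlatMod.IsFinLocFree S.X₂)
    (h₃ : FlatMod.IsFinLocFree S.X₃) : FlatMod.IsFinLocFree S.X₁ := by
  choose V hV hxV hn hm using exists_affine_free_pair h₂ h₃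
  have key : ∀ x, Module.Finite Γ(X, V x) Γ(S.X₁, V x) ∧ Module.Projective Γ(X, V x) Γ(S.X₁, V x) := by
    intro x
    obtain ⟨n, ⟨l₂⟩⟩ := hn x
    obtain ⟨m, ⟨l₃⟩⟩ := hm x
    haveI := Module.Free.of_equiv l₂.symm
    haveI := Module.Free.of_equiv l₃.symm
    haveI := Module.Finite.equiv l₂.symm
    obtain ⟨e⟩ := split_sections hS h₁ (hV x)
    let π := (LinearMap.fst _ _ _).comp e.toLinearMap
    exact ⟨Module.Finite.of_surjective π (Prod.fst_surjective.comp e.surjective),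
      Module.Projective.of_split ((e.symm.toLinearMap).comp (LinearMap.inl _ _ _)) π
        (LinearMap.ext fun a => by simp [π])⟩
  refine QCoh.isFlat_and_isFP_iff.1 ⟨fun y => ?_, QCoh.isFP_of_finitePresentation h₁ V
    (top_le_iff.1 fun x _ => Opens.mem_iSup.2 ⟨x, hxV x⟩) hV fun x => ?_⟩
  · haveI := (key y).2
    exact (QCoh.flat_sections_iff h₁ (hV y)).1 inferInstance y (hxV y)
  · haveI := (key x).1
    haveI := (key x).2
    exact Module.finitePresentation_of_projective Γ(X, V x) Γ(S.X₁, V x)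

theorem exists_free_X₁ (hS : S.ShortExact) (h₁ : Coh.IsQCoh S.X₁) (h₂ : FlatMod.IsFinLocFree S.X₂)
    (h₃ : FlatMod.IsFinLocFree S.X₃) {x : X} {U₂ U₃ : X.Opens} {n m : ℕ} (hx₂ : x ∈ U₂) (hx₃ : x ∈ U₃)
    (e₂ : S.X₂.restrict U₂.ι ≅ FlatMod.freeMod (U₂ : Scheme.{u}) n)
    (e₃ : S.X₃.restrict U₃.ι ≅ FlatMod.freeMod (U₃ : Scheme.{u}) m) :
    ∃ (U : X.Opens) (c : ℕ), x ∈ U ∧ c + m = n ∧
      Nonempty (S.X₁.restrict U.ι ≅ FlatMod.freeMod (U : Scheme.{u}) c) := by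
  obtain ⟨U₁, c, hx₁, ⟨e₁⟩⟩ := isFinLocFree_X₁ hS h₁ h₂ h₃ x
  refine ⟨U₁, c, hx₁, ?_, ⟨e₁⟩⟩
  obtain ⟨_, ⟨V, hV, rfl⟩, hxV, hle⟩ := X.isBasis_affineOpens.exists_subset_of_mem_open
    (show x ∈ U₁ ⊓ U₂ ⊓ U₃ from ⟨⟨hx₁, hx₂⟩, hx₃⟩) (U₁ ⊓ U₂ ⊓ U₃).2
  haveI : Nontrivial Γ(X, V) := by
    refine ⟨⟨0, 1, fun h => ?_⟩⟩
    have h1 := congrArg (X.presheaf.germ V x hxV) h
    rw [map_zero, map_one] at h1
    exact zero_ne_one h1
  obtain ⟨l₁⟩ := QCoh.free_sections hV (le_trans hle (le_trans inf_le_left inf_le_left)) e₁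
  obtain ⟨l₂⟩ := QCoh.free_sections hV (le_trans hle (le_trans inf_le_left inf_le_right)) e₂
  obtain ⟨l₃⟩ := QCoh.free_sections hV (le_trans hle inf_le_right) e₃
  haveI := Module.Free.of_equiv l₁.symm
  haveI := Module.Free.of_equiv l₃.symm
  haveI := Module.Finite.equiv l₁.symm
  haveI := Module.Finite.equiv l₃.symm
  obtain ⟨e⟩ := split_sections hS h₁ hV
  have h := e.finrank_eq
  rw [Module.finrank_prod, l₁.finrank_eq, l₂.finrank_eq, l₃.finrank_eq] at h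
  simpa using h.symm

end Groth.Agent.H4NS
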