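import Groth.Prelude
import Groth.Agent.Synt29.OmegaAffine
import Groth.Agent.QCoh.LocFree
import Groth.Agent.SmoothReg.Scheme
import Groth.Agent.SmoothReg.Omega
import Groth.Agent.S5019
import Mathlib

/-! Regularity and freeness of differentials over an algebraically closed (or perfect) field. -/

set_option backward.isDefEq.respectTransparency false
set_option backward.isDefEq.respectTransparency.types false
set_option linter.style.haveILetI false

universe u

open CategoryTheory AlgebraicGeometry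

namespace Groth.Agent.H4NS

variable {k : Type u} [Field k] {X : Scheme.{u}}

/-- Sections of a sheaf of differentials over `Spec k`, with `k` as the base ring. -/
theorem exists_linearEquiv_field (f : X ⟶ Spec (CommRingCat.of k)) {Ω : X.Modules}
    {d : OmegaSh.Der f Ω} (hd : OmegaSh.IsUniversal d) {V : X.Opens} (hV : IsAffineOpen V) :
    letI := (SmoothReg.affMap f V).toAlgebra
    Nonempty (Γ(Ω, V) ≃ₗ[Γ(X, V)] Ω[Γ(X, V)⁄k]) := by
  letI := (SmoothReg.affMap f V).toAlgebra
  letI := (f.appLE ⊤ V (by simp)).hom.toAlgebra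
  letI : Algebra k Γ(Spec (CommRingCat.of k), ⊤) :=
    (Scheme.ΓSpecIso (CommRingCat.of k)).inv.hom.toAlgebra
  haveI : IsScalarTower k Γ(Spec (CommRingCat.of k), ⊤) Γ(X, V) := .of_algebraMap_eq' rfl
  have hbij : Function.Bijective (algebraMap k Γ(Spec (CommRingCat.of k), ⊤)) :=
    ConcreteCategory.bijective_of_isIso (Scheme.ΓSpecIso (CommRingCat.of k)).inv
  haveI : Algebra.FormallyEtale k Γ(Spec (CommRingCat.of k), ⊤) :=
    Algebra.FormallyEtale.of_equiv (AlgEquiv.ofBijective (Algebra.ofId k _) hbij)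
  haveI : Subsingleton Ω[Γ(Spec (CommRingCat.of k), ⊤)⁄k] := inferInstance
  obtain ⟨l⟩ := Synt29.OmegaStalk.exists_linearEquiv_sections hd hV (isAffineOpen_top _) (by simp)
  let q : Ω[Γ(X, V)⁄k] →ₗ[Γ(X, V)] Ω[Γ(X, V)⁄Γ(Spec (CommRingCat.of k), ⊤)] :=
    KaehlerDifferential.map k Γ(Spec (CommRingCat.of k), ⊤) Γ(X, V) Γ(X, V)
  have hinj : Function.Injective q := by
    rw [injective_iff_map_eq_zero]
    intro x hx
    obtain ⟨t, rfl⟩ :=
      (KaehlerDifferential.exact_mapBaseChange_map k Γ(Spec (CommRingCat.of k), ⊤) Γ(X, V) x).1 hx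
    rw [Subsingleton.elim t 0, map_zero]
  exact ⟨l.trans (LinearEquiv.ofBijective q ⟨hinj, KaehlerDifferential.map_surjective _ _ _⟩).symm⟩

/-- At a closed point near which the differentials are free of rank `n`, the cotangent space has
dimension `n`. -/
theorem finrank_cotangentSpace_stalk [PerfectField k] (f : X ⟶ Spec (CommRingCat.of k))
    [LocallyOfFiniteType f] {Ω : X.Modules}
    {d : OmegaSh.Der f Ω} (hd : OmegaSh.IsUniversal d) {U : X.Opens} {n : ℕ}
    (e : Ω.restrict U.ι ≅ FlatMod.freeMod (U : Scheme.{u}) n) {x : X} (hxU : x ∈ U)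
    (hx : IsClosed ({x} : Set X)) :
    (IsLocalRing.maximalIdeal (X.presheaf.stalk x)).spanFinrank = n := by
  obtain ⟨_, ⟨V, hV, rfl⟩, hxV, hle⟩ :=
    X.isBasis_affineOpens.exists_subset_of_mem_open (show x ∈ U from hxU) U.2
  letI := (SmoothReg.affMap f V).toAlgebra
  haveI : Algebra.FiniteType k Γ(X, V) := SmoothReg.finiteType_affMap f hV
  obtain ⟨l₁⟩ := exists_linearEquiv_field f hd hV
  obtain ⟨l₂⟩ := QCoh.free_sections hV hle e
  haveI : Module.Free Γ(X, V) Ω[Γ(X, V)⁄k] := Module.Free.of_equiv (l₂.symm.trans l₁)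
  haveI : (hV.primeIdealOf ⟨x, hxV⟩).asIdeal.IsMaximal := hV.primeIdealOf_isMaximal_of_isClosed _ hx
  haveI : Nontrivial Γ(X, V) :=
    ⟨⟨0, 1, fun h => Ideal.IsPrime.ne_top (I := (hV.primeIdealOf ⟨x, hxV⟩).asIdeal) inferInstance
      ((Ideal.eq_top_iff_one _).2 (h ▸ zero_mem _))⟩⟩
  have h := SmoothReg.finrank_cotangentSpace_maximal (k := k) (hV.primeIdealOf ⟨x, hxV⟩)
  haveI : IsNoetherianRing Γ(X, V) := Algebra.FiniteType.isNoetherianRing k _
  haveI : IsNoetherianRing (X.presheaf.stalk x) :=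
    isNoetherianRing_of_ringEquiv _ (SmoothReg.stalkEquiv hV hxV)
  rw [Module.rankAtStalk_eq_finrank_of_free, ← (l₂.symm.trans l₁).finrank_eq,
    Module.finrank_finsupp_self, Fintype.card_ulift, Fintype.card_fin] at h
  haveI : IsNoetherianRing (Localization.AtPrime (hV.primeIdealOf ⟨x, hxV⟩).asIdeal) :=
    IsLocalization.isNoetherianRing (hV.primeIdealOf ⟨x, hxV⟩).asIdeal.primeCompl _ inferInstance
  rw [← IsLocalRing.map_ringEquiv_maximalIdeal (SmoothReg.stalkEquiv hV hxV),
    Ideal.spanFinrank_map_eq_of_ringEquiv, IsLocalRing.spanFinrank_maximalIdeal_eq_finrank_cotangentSpace, h]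
  simp

/-- A point of a scheme over an algebraically closed field is regular with dimension the rank of
the differentials, for closed points. -/
theorem isRegularLocalRing_iff_of_free [PerfectField k] (f : X ⟶ Spec (CommRingCat.of k))
    [LocallyOfFiniteType f] [IrreducibleSpace X] {Ω : X.Modules}
    {d : OmegaSh.Der f Ω} (hd : OmegaSh.IsUniversal d) {U : X.Opens} {m n : ℕ}
    (hn : topologicalKrullDim X = (n : WithBot ℕ∞))
    (e : Ω.restrict U.ι ≅ FlatMod.freeMod (U : Scheme.{u}) m) {x : X} (hxU : x ∈ U)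
    (hx : IsClosed ({x} : Set X)) :
    IsRegularLocalRing (X.presheaf.stalk x) ↔ m = n := by
  haveI : IsNoetherianRing (X.presheaf.stalk x) := by
    haveI := LocallyOfFiniteType.isLocallyNoetherian f
    infer_instance
  rw [isRegularLocalRing_iff, finrank_cotangentSpace_stalk f hd e hxU hx,
    SmoothReg.ringKrullDim_stalk_closedPoint f hx, hn]
  exact ⟨fun h => by exact_mod_cast h, fun h => by rw [h]⟩

end Groth.Agent.H4NS
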