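import Groth.Prelude
import Groth.Agent.Synt29.OmegaAffine
import Groth.Agent.Synt29.OmegaRestrict
import Groth.Agent.QCoh.LocFree
import Groth.Agent.MorLib.SmoothLocus
import Groth.Agent.FibDim.RingLoc
import Groth.Agent.FibDim.LocDim
import Groth.Agent.S2063
import Groth.Agent.S2156
import Groth.Agent.S5019
import Groth.Agent.S7408
import Mathlib

/-! Smooth at a point iff flat with free differentials of rank the fibre dimension. -/

set_option autoImplicit false
set_option backward.isDefEq.respectTransparency false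
set_option backward.isDefEq.respectTransparency.types false
set_option linter.style.haveILetI false

universe u

open CategoryTheory AlgebraicGeometry TensorProduct

namespace Groth.Agent.H4NS

/-- Ring level: flat at `q`, free differentials of rank at most the fibre dimension gives smooth. -/
theorem isSmoothAt_of_free {A B : Type u} [CommRing A] [CommRing B] [Algebra A B]
    [Algebra.FinitePresentation A B] (q : PrimeSpectrum B) {n : ℕ}
    (l : Ω[B⁄A] ≃ₗ[B] (ULift.{u} (Fin n) →₀ B))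
    (hflat : ((Spec.map (CommRingCat.ofHom (algebraMap A B))).stalkMap q).hom.Flat)
    (hdim : (n : WithBot ℕ∞) ≤ FlatMor.fibreDimAt (Spec.map (CommRingCat.ofHom (algebraMap A B))) q) :
    Algebra.IsSmoothAt A q.asIdeal := by
  let p := q.asIdeal.under A
  obtain ⟨Q, hQ⟩ := FibDim.exists_fiber_point (A := A) q
  rw [← FibDim.localDim_fiber_eq_fibreDimAt q Q hQ] at hdim
  refine MorLib.SmoothAlg.isSmoothAt_of_fiber p q.asIdeal (MorLib.SmoothLoc.flat_Spec_stalk q hflat)
    Q.asIdeal hQ ((Groth.Agent.S2063.result (k := p.ResidueField) (S := p.ResidueField ⊗[A] B) Q.asIdeal).2 ?_)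
  letI : Algebra B (p.ResidueField ⊗[A] B) := Algebra.TensorProduct.rightAlgebra
  let e := (KaehlerDifferential.tensorKaehlerEquiv A p.ResidueField B (p.ResidueField ⊗[A] B)).symm.trans
    (LinearEquiv.baseChange B (p.ResidueField ⊗[A] B) _ _ l)
  haveI : Module.Free (p.ResidueField ⊗[A] B) Ω[p.ResidueField ⊗[A] B⁄p.ResidueField] :=
    Module.Free.of_equiv e.symm
  haveI : Nontrivial (p.ResidueField ⊗[A] B) :=
    ⟨⟨0, 1, fun h => Q.isPrime.ne_top ((Ideal.eq_top_iff_one _).2 (h ▸ zero_mem _))⟩⟩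
  haveI : Nontrivial B :=
    ⟨⟨0, 1, fun h => q.isPrime.ne_top ((Ideal.eq_top_iff_one _).2 (h ▸ zero_mem _))⟩⟩
  rw [Module.finrank_baseChange, e.finrank_eq, Module.finrank_baseChange, Module.finrank_finsupp_self,
    Fintype.card_ulift, Fintype.card_fin]
  exact_mod_cast hdim

variable {X Y : Scheme.{u}} (f : X ⟶ Y)

/-- Flat at the point with free differentials of rank at most the fibre dimension gives smooth. -/
theorem mem_smoothLocus_of_free [LocallyOfFinitePresentation f] {Ω : X.Modules}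
    {d : OmegaSh.Der f Ω} (hd : OmegaSh.IsUniversal d) {x : X} {U : X.Opens} (hxU : x ∈ U) {n : ℕ}
    (i : Ω.restrict U.ι ≅ FlatMod.freeMod (U : Scheme.{u}) n) (hflat : (f.stalkMap x).hom.Flat)
    (hdim : (n : WithBot ℕ∞) ≤ FlatMor.fibreDimAt f x) : x ∈ f.smoothLocus := by
  obtain ⟨W, hW, hxW, -⟩ := exists_isAffineOpen_mem_and_subset (x := f x) (U := ⊤) trivial
  obtain ⟨_, ⟨V, hV, rfl⟩, hxV, hle⟩ :=
    X.isBasis_affineOpens.exists_subset_of_mem_open (show x ∈ U ⊓ f ⁻¹ᵁ W from ⟨hxU, hxW⟩)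
      (U ⊓ f ⁻¹ᵁ W).2
  have hVW : V ≤ f ⁻¹ᵁ W := le_trans hle inf_le_right
  letI := (f.appLE W V hVW).hom.toAlgebra
  haveI : Algebra.FinitePresentation Γ(Y, W) Γ(X, V) := f.finitePresentation_appLE hW hV hVW
  obtain ⟨l₁⟩ := Synt29.OmegaStalk.exists_linearEquiv_sections hd hV hW hVW
  obtain ⟨l₂⟩ := QCoh.free_sections hV (le_trans hle inf_le_left) i
  rw [Scheme.Hom.mem_smoothLocus, formallySmooth_stalkMap_iff W hW V hV hVW hxV]
  let q := hV.primeIdealOf ⟨x, hxV⟩
  have hq : hV.fromSpec q = x := hV.fromSpec_primeIdealOf ⟨x, hxV⟩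
  have hcomm := hW.SpecMap_appLE_fromSpec f hV hVW
  refine isSmoothAt_of_free q (l₁.symm.trans l₂) ?_ ?_
  · have h0 : ((hV.fromSpec ≫ f).stalkMap q).hom.Flat := by
      rw [Scheme.Hom.stalkMap_comp]
      refine (RingHom.Flat.respectsIso.cancel_right_isIso _ _).mpr ?_
      rw [← hq] at hflat
      exact hflat
    rw [← hcomm, Scheme.Hom.stalkMap_comp] at h0
    exact (RingHom.Flat.respectsIso.cancel_left_isIso _ _).mp h0
  · rwa [← hq, Groth.Agent.S7408.result f _ hV.fromSpec hW.fromSpec hcomm q] at hdim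

/-- At a smooth point the differentials are free of rank the fibre dimension. -/
theorem exists_free_of_mem_smoothLocus [LocallyOfFinitePresentation f] {Ω : X.Modules}
    {d : OmegaSh.Der f Ω} (hd : OmegaSh.IsUniversal d) {x : X} (hx : x ∈ f.smoothLocus) :
    ∃ (U : X.Opens) (n : ℕ), x ∈ U ∧ Nonempty (Ω.restrict U.ι ≅ FlatMod.freeMod (U : Scheme.{u}) n) ∧
      FlatMor.fibreDimAt f x = (n : WithBot ℕ∞) := by
  let W := f.smoothLocus
  haveI : Smooth (W.ι ≫ f) := by
    rw [← Scheme.Hom.smoothLocus_eq_top_iff, ← Scheme.Hom.preimage_smoothLocus_eq]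
    exact Scheme.Opens.ι_preimage_self W
  obtain ⟨V, n, hxV, ⟨i⟩, hn⟩ :=
    Groth.Agent.S5019.result (W.ι ≫ f) _ _ (Synt29.OmegaStalk.isUniversal_restrictDer W.ι hd) ⟨x, hx⟩
  refine ⟨(V.ι ≫ W.ι).opensRange, n, ⟨⟨⟨x, hx⟩, hxV⟩, rfl⟩, ⟨?_⟩, ?_⟩
  · exact (Scheme.Modules.restrictFunctorCongr (show (V.ι ≫ W.ι).opensRange.ι =
        ((V.ι ≫ W.ι).isoOpensRange.inv ≫ V.ι) ≫ W.ι by
        rw [Category.assoc, Scheme.Hom.isoOpensRange_inv_comp])).app Ω ≪≫
      (QCoh.restrictRestrict Ω _ _).symm ≪≫ (QCoh.restrictRestrict _ _ _).symm ≪≫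
      (Scheme.Modules.restrictFunctor _).mapIso i ≪≫ QCoh.freeModRestrict _ n
  · rw [show x = W.ι ⟨x, hx⟩ from rfl, ← FibDim.fibreDimAt_openImmersion_comp]
    exact hn

end Groth.Agent.H4NS
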