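import Mathlib

/-!
# The map `θ : W_n(B/p) → B`
-/

universe u

open Finset

namespace Groth.Agent.H4NS.WittTheta

variable {p : ℕ} [hp : Fact p.Prime] {B : Type u} [CommRing B]

theorem pow_p_surjective (hF : Function.Surjective (fun y : B ⧸ Ideal.span {(p : B)} => y ^ p)) (b : B) (m : ℕ) :
    ∃ y c : B, b = y ^ (p ^ m) + p * c := by
  have h : ∀ (m : ℕ) (z : B ⧸ Ideal.span {(p : B)}), ∃ w, w ^ (p ^ m) = z := by
    intro m
    induction m with
    | zero => exact fun z => ⟨z, by rw [pow_zero, pow_one]⟩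
    | succ m ih =>
      intro z
      obtain ⟨v, hv⟩ := ih z
      obtain ⟨w, hw⟩ := hF v
      exact ⟨w, by rw [pow_succ', pow_mul, show w ^ p = v from hw, hv]⟩
  obtain ⟨w, hw⟩ := h m (Ideal.Quotient.mk _ b)
  obtain ⟨y, rfl⟩ := Ideal.Quotient.mk_surjective w
  rw [← map_pow, Ideal.Quotient.eq, Ideal.mem_span_singleton] at hw
  obtain ⟨c, hc⟩ := hw
  exact ⟨y, -c, by rw [mul_neg, ← hc]; ring⟩

/-- Every element of `p ^ i B` is a sum `∑ p ^ j y_j ^ (p ^ (n - j))`, `i ≤ j < n`. -/
theorem exists_digits (hF : Function.Surjective (fun y : B ⧸ Ideal.span {(p : B)} => y ^ p)) {n : ℕ}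
    (hpn : (p : B) ^ n = 0) (k i : ℕ) (hk : i + k = n) (b : B) :
    ∃ y : ℕ → B, (p : B) ^ i * b = ∑ j ∈ Ico i n, (p : B) ^ j * y j ^ (p ^ (n - j)) := by
  induction k generalizing i b with
  | zero => exact ⟨fun _ => 0, by rw [show i = n by omega, hpn, zero_mul, Ico_self, sum_empty]⟩
  | succ k ih =>
    obtain ⟨w, c, hc⟩ := pow_p_surjective hF b (n - i)
    obtain ⟨y, hy⟩ := ih (i + 1) (by omega) c
    refine ⟨Function.update y i w, ?_⟩
    rw [Finset.sum_eq_sum_Ico_succ_bot (show i < n by omega), Function.update_self, hc, mul_add]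
    congr 1
    rw [← mul_assoc, ← pow_succ, hy]
    refine sum_congr rfl fun j hj => ?_
    rw [Finset.mem_Ico] at hj
    rw [Function.update_of_ne (show j ≠ i by omega)]

theorem mk_theta (n : ℕ) (hn : 0 < n) (x : WittVector p B) :
    Ideal.Quotient.mk (Ideal.span {(p : B)}) (∑ i : Fin n, (p : B) ^ (i : ℕ) * (x.coeff i) ^ (p ^ (n - i))) =
      Ideal.Quotient.mk (Ideal.span {(p : B)}) (x.coeff 0) ^ (p ^ n) := by
  have hp0 : Ideal.Quotient.mk (Ideal.span {(p : B)}) (p : B) = 0 :=
    Ideal.Quotient.eq_zero_iff_mem.2 (Ideal.subset_span rfl)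
  rw [map_sum, Finset.sum_eq_single (⟨0, hn⟩ : Fin n)]
  · simp
  · intro i _ hi
    rw [map_mul, map_pow, hp0, zero_pow (fun h => hi (Fin.ext h)), zero_mul]
  · intro h; exact absurd (mem_univ _) h

/-- Vectors with vanishing zeroth component are divisible by `p`. -/
theorem exists_mul_p {A : Type u} [CommRing A] (hA : (p : A) = 0) (hF : Function.Surjective (fun y : A => y ^ p))
    (d : WittVector p A) (hd : d.coeff 0 = 0) : ∃ e : WittVector p A, d = e * (p : WittVector p A) := by
  rcases subsingleton_or_nontrivial A with h | h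
  · exact ⟨0, WittVector.ext fun m => Subsingleton.elim _ _⟩
  haveI : CharP A p := (CharP.charP_iff_prime_eq_zero hp.out).2 hA
  choose e he using fun m => hF (d.coeff (m + 1))
  refine ⟨WittVector.mk p e, WittVector.ext fun m => ?_⟩
  cases m with
  | zero => rw [WittVector.mul_charP_coeff_zero, hd]
  | succ m => rw [WittVector.mul_charP_coeff_succ]; exact (he m).symm

end Groth.Agent.H4NS.WittTheta
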